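import Groth.Agent.H24.ValFlat.Tors
import Groth.Agent.Lib.FlatCA.CompleteFlatten
import Groth.Agent.Lib.DvrCrit.Algebra
import Mathlib.RingTheory.Nilpotent.Lemmas
import Mathlib.RingTheory.Filtration
import Mathlib.RingTheory.Valuation.ValuationSubring
import Mathlib.RingTheory.DiscreteValuationRing.Basic

set_option linter.style.haveILetI false

/-!
# The valuative criterion of flatness over a complete local ring
-/

universe u

open TensorProduct IsLocalRing

namespace Groth.Agent.H24.ValFlat

open Groth.Agent.Lib.FlatCA.CompleteFlatten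

/-- A prime of a Noetherian local ring below the maximal ideal is cut out by a discrete valuation
ring dominating the quotient. -/
theorem exists_dvr_kernel {R : Type u} [CommRing R] [IsLocalRing R] [IsNoetherianRing R]
    (P : Ideal R) [P.IsPrime] (hP : P ≠ maximalIdeal R) :
    ∃ (W : Type u) (_ : CommRing W) (_ : IsDomain W) (_ : IsDiscreteValuationRing W)
      (φ : R →+* W), RingHom.ker φ = P ∧ (maximalIdeal R).map φ ≤ maximalIdeal W := by
  let K := FractionRing (R ⧸ P)
  let φ : R →+* K := (algebraMap (R ⧸ P) K).comp (Ideal.Quotient.mk P)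
  have hker : RingHom.ker φ = P := by
    ext a
    rw [RingHom.mem_ker, RingHom.comp_apply, map_eq_zero_iff _ (IsFractionRing.injective (R ⧸ P) K),
      Ideal.Quotient.eq_zero_iff_mem]
  have hs : Subfield.closure (Set.range φ ∪ ((∅ : Finset K) : Set K)) = ⊤ := by
    refine eq_top_iff.2 fun z _ => ?_
    obtain ⟨a, b, _, rfl⟩ := IsFractionRing.div_surjective (R ⧸ P) z
    obtain ⟨a, rfl⟩ := Ideal.Quotient.mk_surjective a
    obtain ⟨b, rfl⟩ := Ideal.Quotient.mk_surjective b
    exact div_mem (Subfield.subset_closure (Or.inl ⟨a, rfl⟩))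
      (Subfield.subset_closure (Or.inl ⟨b, rfl⟩))
  have hlt : RingHom.ker φ < maximalIdeal R := by
    rw [hker]
    exact lt_of_le_of_ne (le_maximalIdeal (Ideal.IsPrime.ne_top')) hP
  obtain ⟨W, hW, hWA, hcomap⟩ := Lib.DvrCrit.exists_dvr φ ∅ hs (maximalIdeal R) hlt
  refine ⟨W, inferInstance, inferInstance, hW, φ.codRestrict W.toSubring hWA, ?_, ?_⟩
  · refine Eq.trans ?_ hker
    ext a
    rw [RingHom.mem_ker, RingHom.mem_ker, Subtype.ext_iff]
    rfl
  · exact Ideal.map_le_iff_le_comap.2 hcomap.ge

variable {R S M : Type u} [CommRing R] [CommRing S] [Algebra R S] [AddCommGroup M] [Module S M]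
  [Module R M] [IsScalarTower R S M]

/-- Over a complete Noetherian local ring, flatness at the closed fibre modulo the nilradical is
tested by discrete valuation rings. -/
theorem flat_mod_nilradical [IsLocalRing R] [IsNoetherianRing R]
    [IsAdicComplete (maximalIdeal R) R] [IsNoetherianRing S] [Module.Finite S M]
    (hdvr : ∀ (W : Type u) [CommRing W] [IsDomain W] [IsDiscreteValuationRing W] [Algebra R W],
      Module.Flat W (W ⊗[R] M))
    (q : Ideal S) [q.IsPrime] (hq : q.comap (algebraMap R S) = maximalIdeal R) :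
    Module.Flat (R ⧸ nilradical R) ((R ⧸ nilradical R) ⊗[R] LocalizedModule q.primeCompl M) := by
  obtain ⟨I, hIm, hIflat, -, h4⟩ := exists_flattening R S M
  have hIN : I ≤ nilradical R := by
    rw [nilradical_eq_sInf]
    refine le_sInf fun P hP => ?_
    have : P.IsPrime := hP
    by_cases hPm : P = maximalIdeal R
    · rw [hPm]
      exact hIm
    obtain ⟨W, _, _, _, φ, hker, hle⟩ := exists_dvr_kernel P hPm
    letI : Algebra R W := φ.toAlgebra
    have hn : ∀ n : ℕ, I.map φ ≤ maximalIdeal W ^ n := by
      intro n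
      let A' := W ⧸ maximalIdeal W ^ n
      have hA' : (maximalIdeal R ^ n).map (algebraMap R A') = ⊥ := by
        rw [IsScalarTower.algebraMap_eq R W A', ← Ideal.map_map, Ideal.map_pow,
          Ideal.Quotient.algebraMap_eq (maximalIdeal W ^ n), Ideal.map_eq_bot_iff_le_ker,
          Ideal.mk_ker]
        exact Ideal.pow_right_mono hle n
      haveI := hdvr W
      have := (h4 n A' hA').1 (flat_of_tower W A' M)
      rw [IsScalarTower.algebraMap_eq R W A', ← Ideal.map_map,
        Ideal.Quotient.algebraMap_eq (maximalIdeal W ^ n), Ideal.map_eq_bot_iff_le_ker,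
        Ideal.mk_ker] at this
      exact this
    have h0 : I.map φ = ⊥ := by
      rw [eq_bot_iff, ← Ideal.iInf_pow_eq_bot_of_isLocalRing (maximalIdeal W) (maximalIdeal.isMaximal W).ne_top]
      exact le_iInf hn
    exact ((Ideal.map_eq_bot_iff_le_ker φ).1 h0).trans hker.le
  letI : Algebra (R ⧸ I) (R ⧸ nilradical R) := (Ideal.Quotient.factor hIN).toAlgebra
  haveI : IsScalarTower R (R ⧸ I) (R ⧸ nilradical R) := IsScalarTower.of_algebraMap_eq fun _ => rfl
  haveI := hIflat q hq
  exact flat_of_tower (R ⧸ I) (R ⧸ nilradical R) _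

/-- Valuative criterion of flatness over a complete Noetherian local ring. -/
theorem flat_of_dvr [IsLocalRing R] [IsNoetherianRing R]
    [IsAdicComplete (maximalIdeal R) R] [IsNoetherianRing S] [Module.Finite S M]
    (Z : Set R) (hZ : ∀ q : Ideal R, q.IsPrime → (∀ a ∈ Z, a ∈ q) → q = maximalIdeal R)
    (hker : ∀ a ∈ Z, KerTors M a) (x : R) (hxZ : x ∈ Z) (hx : ∀ a, x * a = 0 → a = 0)
    (hdvr : ∀ (W : Type u) [CommRing W] [IsDomain W] [IsDiscreteValuationRing W] [Algebra R W],
      Module.Flat W (W ⊗[R] M)) : Module.Flat R M := by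
  refine flat_of_kerTors_of_localized (S := S) Z hker fun q hq h => ?_
  have hqm : q.comap (algebraMap R S) = maximalIdeal R :=
    hZ _ (Ideal.IsPrime.comap _) fun a ha => h a ha
  haveI := flat_mod_nilradical hdvr q hqm
  refine flat_of_kerTors (nilradical R) ?_ x hx (fun a ha => ?_)
    (kerTors_localized q.primeCompl (hker x hxZ))
  · exact IsNoetherianRing.isNilpotent_nilradical R
  · rw [mem_nilradical] at ha ⊢
    obtain ⟨k, hk⟩ := ha
    refine ⟨k, ?_⟩
    rw [mul_pow] at hk
    generalize a ^ k = b at hk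
    induction k with
    | zero => simpa using hk
    | succ k ih =>
      apply ih
      apply hx
      rw [← mul_assoc, ← pow_succ', hk]

end Groth.Agent.H24.ValFlat
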