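import Groth.Agent.H24.ValFlat.Complete
import Groth.Agent.Lib.Excellent.CompletionNoetherian
import Mathlib.RingTheory.AdicCompletion.AsTensorProduct
import Mathlib.RingTheory.AdicCompletion.LocalRing
import Mathlib.RingTheory.Flat.FaithfullyFlat.Algebra
import Mathlib.RingTheory.Ideal.Height
import Mathlib.RingTheory.Ideal.MinimalPrime.Noetherian
import Mathlib.RingTheory.FiniteType
import Mathlib.RingTheory.Localization.BaseChange

/-!
# The valuative criterion of flatness
-/

set_option linter.style.haveILetI false

universe u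

open TensorProduct IsLocalRing

namespace Groth.Agent.H24.ValFlat

variable {A : Type u} [CommRing A] {M : Type u} [AddCommGroup M] [Module A M]

/-- Flatness at the primes strictly below `p` makes kernels torsion for the elements of `p`. -/
theorem exists_pow_smul_eq_zero (p : Ideal A) [p.IsPrime]
    (hflat : ∀ (q : Ideal A) [q.IsPrime], q < p → Module.Flat A (LocalizedModule q.primeCompl M))
    {P Q : Type u} [AddCommGroup P] [Module A P] [AddCommGroup Q] [Module A Q] (f : P →ₗ[A] Q)
    (hf : Function.Injective f) (hP : ∀ s ∉ p, Function.Bijective (s • LinearMap.id : P →ₗ[A] P))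
    (t : M ⊗[A] P) (ht : f.lTensor M t = 0) (b : A) (hb : b ∈ p) : ∃ c : ℕ, b ^ c • t = 0 := by
  by_contra hcon
  push Not at hcon
  have hinj : ∀ s ∉ p, ∀ u : M ⊗[A] P, s • u = 0 → u = 0 := by
    intro s hs u hu
    have hbij := LinearMap.lTensor M (LinearEquiv.ofBijective _ (hP s hs)).toLinearMap
    have h2 : Function.Injective ((s • LinearMap.id : P →ₗ[A] P).lTensor M) :=
      (LinearEquiv.lTensor M (LinearEquiv.ofBijective _ (hP s hs))).injective
    apply h2
    rw [LinearMap.lTensor_smul, map_zero, LinearMap.smul_apply, LinearMap.lTensor_id,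
      LinearMap.id_apply, hu]
  let T : Submonoid A := p.primeCompl ⊔ Submonoid.powers b
  let J : Ideal A := LinearMap.ker (LinearMap.toSpanSingleton A (M ⊗[A] P) t)
  have hdisj : Disjoint (J : Set A) T := by
    rw [Set.disjoint_left]
    intro a ha haT
    obtain ⟨s, hs, y, ⟨c, rfl⟩, rfl⟩ := Submonoid.mem_sup.1 haT
    have h0 : (s * b ^ c) • t = 0 := ha
    rw [mul_smul] at h0
    exact hcon c (hinj s hs _ h0)
  obtain ⟨q, hq, hJq, hqT⟩ := J.exists_le_prime_disjoint T hdisj
  have hqp : q < p := by
    refine lt_of_le_of_ne (fun a ha => ?_) fun h => ?_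
    · by_contra hap
      exact Set.disjoint_left.1 hqT ha (Submonoid.mem_sup_left hap)
    · exact Set.disjoint_left.1 hqT (h ▸ hb)
        (Submonoid.mem_sup_right (Submonoid.mem_powers b))
  haveI := hflat q hqp
  let g := AlgebraTensorModule.rTensor A P (LocalizedModule.mkLinearMap q.primeCompl M)
  have hg : g t = 0 := by
    apply Module.Flat.lTensor_preserves_injective_linearMap
      (M := LocalizedModule q.primeCompl M) f hf
    rw [map_zero]
    have : f.lTensor (LocalizedModule q.primeCompl M) (g t) =
        (LocalizedModule.mkLinearMap q.primeCompl M).rTensor Q (f.lTensor M t) := by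
      rw [← LinearMap.comp_apply, ← LinearMap.comp_apply]
      congr 1
      exact TensorProduct.ext' fun _ _ => rfl
    rw [this, ht, map_zero]
  obtain ⟨s, hs⟩ := (IsLocalizedModule.eq_zero_iff q.primeCompl g).1 hg
  exact s.2 (hJq hs)

variable (R : Type u) [CommRing R] [Algebra A R]

/-- Torsion kernels pass to the base change to an algebra inverting the elements outside `p`. -/
theorem kerTors_baseChange (p : Ideal A) [p.IsPrime]
    (hflat : ∀ (q : Ideal A) [q.IsPrime], q < p → Module.Flat A (LocalizedModule q.primeCompl M))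
    (hR : ∀ s ∉ p, IsUnit (algebraMap A R s)) (b : A) (hb : b ∈ p) :
    KerTors (R ⊗[A] M) (algebraMap A R b) := by
  intro J t ht
  let e : (R ⊗[A] M) ⊗[R] J ≃ₗ[R] J ⊗[A] M :=
    (TensorProduct.comm R _ _).trans (AlgebraTensorModule.cancelBaseChange A R R J M)
  let e' : (R ⊗[A] M) ⊗[R] R ≃ₗ[R] R ⊗[A] M :=
    (TensorProduct.comm R _ _).trans (AlgebraTensorModule.cancelBaseChange A R R R M)
  let f : J →ₗ[A] R := J.subtype.restrictScalars A
  have hnat : ∀ u, f.rTensor M (e u) = e' (J.subtype.lTensor (R ⊗[A] M) u) := by
    intro u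
    induction u using TensorProduct.induction_on with
    | zero => simp
    | add a b ha hb => simp only [map_add, ha, hb]
    | tmul a j =>
      induction a using TensorProduct.induction_on with
      | zero => simp
      | add a b ha hb => simp only [TensorProduct.add_tmul, map_add, ha, hb]
      | tmul r m => simp [e, e', f]
  let t' : M ⊗[A] J := TensorProduct.comm A J M (e t)
  have ht' : f.lTensor M t' = 0 := by
    have h : f.lTensor M t' = TensorProduct.comm A R M (f.rTensor M (e t)) := by
      simp only [t', ← LinearEquiv.coe_coe, ← LinearMap.comp_apply]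
      congr 1
      exact TensorProduct.ext' fun _ _ => rfl
    rw [h, hnat, ht, map_zero, map_zero]
  have hJ : ∀ s ∉ p, Function.Bijective (s • LinearMap.id : J →ₗ[A] J) := by
    intro s hs
    have h : Function.Bijective fun j : J => algebraMap A R s • j := (hR s hs).smul_bijective
    convert h using 1
    funext j
    exact (algebraMap_smul R s j).symm
  obtain ⟨c, hc⟩ := exists_pow_smul_eq_zero p hflat f J.injective_subtype hJ t' ht' b hb
  refine ⟨c, e.injective ?_⟩
  rw [map_zero, map_smul, ← map_pow, algebraMap_smul]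
  apply (TensorProduct.comm A J M).injective
  rw [map_smul, map_zero]
  exact hc

/-- The valuative criterion at one prime, all smaller primes being known. -/
theorem flat_localized [IsNoetherianRing A] [IsReduced A] {B : Type u} [CommRing B] [Algebra A B]
    [Algebra.FiniteType A B] [Module B M] [IsScalarTower A B M] [Module.Finite B M]
    (hdvr : ∀ (W : Type u) [CommRing W] [IsDomain W] [IsDiscreteValuationRing W] [Algebra A W],
      Module.Flat W (W ⊗[A] M))
    (p : Ideal A) [p.IsPrime]
    (hflat : ∀ (q : Ideal A) [q.IsPrime], q < p → Module.Flat A (LocalizedModule q.primeCompl M)) :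
    Module.Flat A (LocalizedModule p.primeCompl M) := by
  let Ap := Localization.AtPrime p
  haveI : IsNoetherianRing Ap := IsLocalization.isNoetherianRing p.primeCompl Ap inferInstance
  haveI : IsReduced Ap := isReduced_localizationPreserves p.primeCompl Ap inferInstance
  suffices h : Module.Flat Ap (Ap ⊗[A] M) by
    haveI : Module.Flat A Ap := IsLocalization.flat Ap p.primeCompl
    haveI : Module.Flat A (Ap ⊗[A] M) := Module.Flat.trans A Ap _
    exact Module.Flat.of_linearEquiv
      (IsLocalizedModule.linearEquiv p.primeCompl (LocalizedModule.mkLinearMap p.primeCompl M)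
        (TensorProduct.mk A Ap M 1))
  by_cases hbot : maximalIdeal Ap = ⊥
  · letI := (IsLocalRing.isField_iff_maximalIdeal_eq.2 hbot).toField
    infer_instance
  -- a regular element of the maximal ideal
  obtain ⟨x', hx'm, hx'⟩ : ∃ x ∈ maximalIdeal Ap, ∀ a, x * a = 0 → a = 0 := by
    have hfin := (minimalPrimes.finite_of_isNoetherianRing Ap)
    have hnot : ¬ ((maximalIdeal Ap : Set Ap) ⊆ ⋃ P ∈ (minimalPrimes Ap), (P : Set Ap)) := by
      intro hsub
      obtain ⟨P, hP, hle⟩ := (Ideal.subset_union_prime_finite hfin ⊥ ⊥
        fun i hi _ _ => hi.1.1).1 hsub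
      have hPm : P = maximalIdeal Ap :=
        le_antisymm (le_maximalIdeal hP.1.1.ne_top) hle
      apply hbot
      rw [eq_bot_iff, ← Ideal.zero_eq_bot, ← nilradical_eq_zero Ap, nilradical_eq_sInf]
      refine le_sInf fun Q hQ => ?_
      have : Q.IsPrime := hQ
      exact hle.trans (hP.2 ⟨this, bot_le⟩ (hPm ▸ le_maximalIdeal this.ne_top))
    obtain ⟨x, hxm, hxn⟩ := Set.not_subset.1 hnot
    refine ⟨x, hxm, fun a ha => ?_⟩
    have : a ∈ sInf (minimalPrimes Ap) := by
      refine Ideal.mem_sInf.2 fun {P} hP => ?_
      refine (hP.1.1.mem_or_mem (ha ▸ P.zero_mem : x * a ∈ P)).resolve_left fun hxP => ?_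
      exact hxn (Set.mem_biUnion hP hxP)
    rw [show sInf (minimalPrimes Ap) = (⊥ : Ideal Ap).radical from
      (Ideal.sInf_minimalPrimes (I := (⊥ : Ideal Ap)))] at this
    obtain ⟨k, hk⟩ := this
    exact IsReduced.eq_zero a ⟨k, hk⟩
  obtain ⟨b, s, hbs⟩ := IsLocalization.exists_mk'_eq p.primeCompl x'
  subst hbs
  have hb : b ∈ p := (IsLocalization.AtPrime.mk'_mem_maximal_iff Ap p b s).1 hx'm
  have hx : ∀ a, algebraMap A Ap b * a = 0 → a = 0 := fun a ha => hx' a (by
    rw [← IsLocalization.mk'_one (M := p.primeCompl) Ap b] at ha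
    have h : IsLocalization.mk' Ap b s =
        IsLocalization.mk' Ap b (1 : p.primeCompl) * IsLocalization.mk' Ap (1 : A) s := by
      rw [← IsLocalization.mk'_mul, mul_one, one_mul]
    rw [h, mul_right_comm, ha, zero_mul])
  -- pass to the completion
  let R := AdicCompletion (maximalIdeal Ap) Ap
  haveI : Module.FaithfullyFlat Ap R := Module.FaithfullyFlat.of_flat_of_isLocalHom
  suffices h : Module.Flat R (R ⊗[A] M) by
    haveI : Module.Flat R (R ⊗[Ap] (Ap ⊗[A] M)) :=
      Module.Flat.of_linearEquiv (AlgebraTensorModule.cancelBaseChange A Ap R R M)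
    exact Module.Flat.of_flat_tensorProduct Ap (Ap ⊗[A] M) R
  let S := R ⊗[A] B
  letI : Algebra B S := Algebra.TensorProduct.rightAlgebra
  haveI : IsNoetherianRing S := Algebra.FiniteType.isNoetherianRing R S
  haveI : Module.Finite S (S ⊗[B] M) := Module.Finite.base_change B S M
  let e : S ⊗[B] M ≃ₗ[R] R ⊗[A] M := Algebra.IsPushout.cancelBaseChange A R B S M
  suffices h : Module.Flat R (S ⊗[B] M) from Module.Flat.of_linearEquiv e.symm
  have hR : ∀ s ∉ p, IsUnit (algebraMap A R s) := fun s hs => by
    rw [IsScalarTower.algebraMap_apply A Ap R]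
    exact (IsLocalization.map_units Ap (⟨s, hs⟩ : p.primeCompl)).map _
  refine flat_of_dvr (S := S) (M := S ⊗[B] M) (algebraMap A R '' (p : Set A)) ?_ ?_
    (algebraMap A R b) ⟨b, hb, rfl⟩ ?_ ?_
  · intro Q hQ hsub
    refine le_antisymm (le_maximalIdeal hQ.ne_top) ?_
    have hmax : maximalIdeal R = p.map (algebraMap A R) := by
      rw [IsScalarTower.algebraMap_eq A Ap R, ← Ideal.map_map,
        Localization.AtPrime.map_eq_maximalIdeal]
      exact AdicCompletion.maximalIdeal_eq_map
    rw [hmax, Ideal.map_le_iff_le_comap]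
    intro a ha
    exact hsub _ ⟨a, ha, rfl⟩
  · rintro _ ⟨a, ha, rfl⟩
    exact (kerTors_baseChange R p hflat hR a ha).of_equiv e.symm
  · intro a ha
    have hinj : Function.Injective (LinearMap.lTensor R (LinearMap.mulLeft Ap (algebraMap A Ap b))) :=
      Module.Flat.lTensor_preserves_injective_linearMap _ fun u v huv => by
        rw [← sub_eq_zero]
        refine hx _ ?_
        rw [mul_sub, sub_eq_zero]
        exact huv
    have h2 : Function.Injective fun u : R => algebraMap A Ap b • u := by
      intro u v huv
      have h3 : ∀ w : R, TensorProduct.rid Ap R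
          (LinearMap.lTensor R (LinearMap.mulLeft Ap (algebraMap A Ap b)) ((TensorProduct.rid Ap R).symm w))
          = algebraMap A Ap b • w := fun w => by simp
      exact (TensorProduct.rid Ap R).symm.injective (hinj ((TensorProduct.rid Ap R).injective
        ((h3 u).trans (huv.trans (h3 v).symm))))
    apply h2
    simp only [smul_zero]
    rw [Algebra.smul_def, ← IsScalarTower.algebraMap_apply, ha]
  · intro W _ _ _ _
    letI : Algebra A W := ((algebraMap R W).comp (algebraMap A R)).toAlgebra
    haveI : IsScalarTower A R W := IsScalarTower.of_algebraMap_eq fun _ => rfl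
    haveI := hdvr W
    exact Module.Flat.of_linearEquiv ((AlgebraTensorModule.congr (LinearEquiv.refl W W) e).trans
      (AlgebraTensorModule.cancelBaseChange A R W W M))

/-- The valuative criterion of flatness. -/
theorem flat_of_forall_dvr [IsNoetherianRing A] [IsReduced A] {B : Type u} [CommRing B]
    [Algebra A B] [Algebra.FiniteType A B] [Module B M] [IsScalarTower A B M] [Module.Finite B M]
    (hdvr : ∀ (W : Type u) [CommRing W] [IsDomain W] [IsDiscreteValuationRing W] [Algebra A W],
      Module.Flat W (W ⊗[A] M)) : Module.Flat A M := by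
  have h : ∀ (k : ℕ∞) (p : Ideal A) [p.IsPrime], p.height = k →
      Module.Flat A (LocalizedModule p.primeCompl M) := by
    intro k
    induction k using WellFoundedLT.induction with
    | _ k ih =>
      intro p hp hk
      refine flat_localized (B := B) hdvr p fun q hq hqp => ?_
      exact ih q.height (hk ▸ Ideal.height_strict_mono_of_isPrime hqp) q rfl
  exact Module.flat_of_localized_maximal M fun P hP => h _ P rfl

end Groth.Agent.H24.ValFlat
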