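import Groth.Agent.Lib.LocalFlat.Criterion
import Mathlib.RingTheory.Flat.Localization
import Mathlib.RingTheory.Localization.AtPrime.Basic
import Mathlib.Algebra.Module.LocalizedModule.AtPrime

/-!
# Flatness from flatness modulo a nilpotent ideal and torsion kernels
-/

universe u v

open TensorProduct

namespace Groth.Agent.H24.ValFlat

open Groth.Agent.Lib.LocalFlat.Basic

variable {R : Type u} [CommRing R] {L : Type v} [AddCommGroup L] [Module R L]

variable (L) in
/-- The kernels of `L ⊗ J → L` are torsion for `x`. -/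
def KerTors (x : R) : Prop :=
  ∀ (J : Ideal R) (t : L ⊗[R] J), J.subtype.lTensor L t = 0 → ∃ c : ℕ, x ^ c • t = 0

theorem KerTors.of_equiv {x : R} {L' : Type*} [AddCommGroup L'] [Module R L'] (h : KerTors L x)
    (e : L ≃ₗ[R] L') : KerTors L' x := by
  intro J t ht
  have h0 : J.subtype.lTensor L (e.symm.toLinearMap.rTensor J t) = 0 := by
    rw [← LinearMap.comp_apply, LinearMap.lTensor_comp_rTensor, ← LinearMap.rTensor_comp_lTensor,
      LinearMap.comp_apply, ht, map_zero]
  obtain ⟨c, hc⟩ := h J _ h0
  refine ⟨c, ?_⟩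
  rw [← map_smul] at hc
  exact (LinearEquiv.rTensor J e.symm).injective (hc.trans (map_zero _).symm)

/-- The saturation of `N ^ i` for `x`. -/
def sat (N : Ideal R) (x : R) (i : ℕ) : Ideal R where
  carrier := {a | ∃ c : ℕ, x ^ c * a ∈ N ^ i}
  zero_mem' := ⟨0, by simp⟩
  add_mem' := by
    rintro a b ⟨c, hc⟩ ⟨d, hd⟩
    refine ⟨c + d, ?_⟩
    have e : x ^ (c + d) * (a + b) = x ^ d * (x ^ c * a) + x ^ c * (x ^ d * b) := by ring
    rw [e]
    exact add_mem (Ideal.mul_mem_left _ _ hc) (Ideal.mul_mem_left _ _ hd)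
  smul_mem' := by
    rintro r a ⟨c, hc⟩
    refine ⟨c, ?_⟩
    rw [smul_eq_mul, mul_left_comm]
    exact Ideal.mul_mem_left _ _ hc

theorem sat_antitone (N : Ideal R) (x : R) (i : ℕ) : sat N x (i + 1) ≤ sat N x i := by
  rintro a ⟨c, hc⟩
  exact ⟨c, Ideal.pow_le_pow_right (Nat.le_succ i) hc⟩

theorem mul_mem_sat {N : Ideal R} {x : R} {i : ℕ} {a b : R} (ha : a ∈ N) (hb : b ∈ sat N x i) :
    a * b ∈ sat N x (i + 1) := by
  obtain ⟨c, hc⟩ := hb
  refine ⟨c, ?_⟩
  rw [pow_succ', mul_left_comm]
  exact Ideal.mul_mem_mul ha hc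

theorem injective_sat (N : Ideal R) (x : R) (r : ℕ) (hr : N ^ r = ⊥)
    (hx : ∀ a, x * a = 0 → a = 0)
    [Module.Flat (R ⧸ N) ((R ⧸ N) ⊗[R] L)] (hL : KerTors L x) :
    ∀ k i : ℕ, r ≤ i + k → Function.Injective ((sat N x i).subtype.lTensor L) := by
  intro k
  induction k with
  | zero =>
    intro i hi
    have hbot : sat N x i = ⊥ := by
      rw [eq_bot_iff]
      rintro a ⟨c, hc⟩
      have h0 : x ^ c * a = 0 := by
        have := Ideal.pow_le_pow_right (I := N) (show r ≤ i by omega) hc
        rwa [hr, Ideal.mem_bot] at this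
      clear hc
      rw [Ideal.mem_bot]
      induction c with
      | zero => simpa using h0
      | succ c ih =>
        apply ih
        apply hx
        rw [← mul_assoc, ← pow_succ', h0]
    intro a b _
    have : Subsingleton (sat N x i) := by
      rw [hbot]
      infer_instance
    have : Subsingleton (L ⊗[R] sat N x i) := by
      refine ⟨fun u v => ?_⟩
      have h : ∀ w : L ⊗[R] sat N x i, w = 0 := fun w => by
        induction w using TensorProduct.induction_on with
        | zero => rfl
        | tmul l y => rw [Subsingleton.elim y 0, TensorProduct.tmul_zero]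
        | add u v hu hv => rw [hu, hv, add_zero]
      rw [h u, h v]
    exact Subsingleton.elim a b
  | succ k ih =>
    intro i hi
    have hnext := ih (i + 1) (by omega)
    rw [injective_iff_map_eq_zero]
    intro t ht
    let incl : sat N x (i + 1) →ₗ[R] sat N x i := Submodule.inclusion (sat_antitone N x i)
    let π : sat N x i →ₗ[R] (sat N x i ⧸ LinearMap.range incl) := (LinearMap.range incl).mkQ
    let f : (sat N x i ⧸ LinearMap.range incl) →ₗ[R] (sat N x i ⧸ LinearMap.range incl) :=
      x • LinearMap.id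
    have hf : Function.Injective f := by
      rw [injective_iff_map_eq_zero]
      intro g hg
      obtain ⟨⟨a, ha⟩, rfl⟩ := Submodule.mkQ_surjective _ g
      rw [LinearMap.smul_apply, LinearMap.id_apply, ← map_smul, Submodule.mkQ_apply,
        Submodule.Quotient.mk_eq_zero] at hg
      obtain ⟨⟨b, hb⟩, hbe⟩ := hg
      have hbe' : b = x * a := congrArg Subtype.val hbe
      obtain ⟨c, hc⟩ := hb
      rw [Submodule.mkQ_apply, Submodule.Quotient.mk_eq_zero]
      refine ⟨⟨a, c + 1, ?_⟩, rfl⟩
      rw [pow_succ x c, mul_assoc, ← hbe']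
      exact hc
    have hkill : ∀ a ∈ N, ∀ g : sat N x i ⧸ LinearMap.range incl, a • g = 0 := by
      intro a ha g
      obtain ⟨⟨b, hb⟩, rfl⟩ := Submodule.mkQ_surjective _ g
      rw [← map_smul, Submodule.mkQ_apply, Submodule.Quotient.mk_eq_zero]
      exact ⟨⟨a * b, mul_mem_sat ha hb⟩, rfl⟩
    have hfL : Function.Injective (f.lTensor L) :=
      lTensor_injective_of_smul_eq_zero (I := N) f hf hkill
    have hfe : ∀ g, f.lTensor L g = x • g := fun g => by
      simp [f, LinearMap.lTensor_smul]
    obtain ⟨c, hc⟩ := hL _ t ht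
    have h0 : π.lTensor L t = 0 := by
      have hc' : x ^ c • π.lTensor L t = 0 := by rw [← map_smul, hc, map_zero]
      clear hc
      induction c with
      | zero => simpa using hc'
      | succ c ihc =>
        apply ihc
        apply hfL
        rw [hfe, map_zero, smul_smul, ← pow_succ', hc']
    have hex : Function.Exact incl π := LinearMap.exact_map_mkQ_range incl
    obtain ⟨w, rfl⟩ := ((lTensor_exact L hex (LinearMap.range incl).mkQ_surjective) t).1 h0
    have hw : (sat N x (i + 1)).subtype.lTensor L w = 0 := by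
      rw [← ht, ← LinearMap.comp_apply, ← LinearMap.lTensor_comp]
      rfl
    rw [hnext (hw.trans (map_zero _).symm), map_zero]

/-- Flat modulo a nilpotent ideal and torsion kernels for an element regular modulo it. -/
theorem flat_of_kerTors (N : Ideal R) (hN : IsNilpotent N) (x : R)
    (hx : ∀ a, x * a = 0 → a = 0) (hxN : ∀ a, x * a ∈ N → a ∈ N)
    [Module.Flat (R ⧸ N) ((R ⧸ N) ⊗[R] L)] (hL : KerTors L x) : Module.Flat R L := by
  obtain ⟨r, hr⟩ := hN
  have h1 : sat N x 1 = N := by
    refine le_antisymm ?_ fun a ha => ⟨0, by simpa using ha⟩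
    rintro a ⟨c, hc⟩
    rw [pow_one] at hc
    induction c with
    | zero => simpa using hc
    | succ c ih => exact ih (hxN _ (by rwa [← mul_assoc, ← pow_succ']))
  have hinj : Function.Injective (N.subtype.lTensor L) := by
    have := injective_sat N x r (by rw [hr, Ideal.zero_eq_bot]) hx hL r 1 (by omega)
    rwa [h1] at this
  refine flat_of_tor1Zero fun J _ => Tor1Zero.of_pow_smul_eq_zero hinj r fun a ha y => ?_
  rw [hr] at ha
  rw [(Ideal.mem_bot).1 ha, zero_smul]

section Local

variable {S : Type*} [CommRing S] [Algebra R S] [Module S L] [IsScalarTower R S L]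

theorem kerTors_localized (M : Submonoid S) {x : R} (h : KerTors L x) :
    KerTors (LocalizedModule M L) x := by
  intro J t ht
  let g := AlgebraTensorModule.rTensor R J (LocalizedModule.mkLinearMap M L)
  let g' := AlgebraTensorModule.rTensor R R (LocalizedModule.mkLinearMap M L)
  obtain ⟨⟨t0, s⟩, hs⟩ := IsLocalizedModule.surj M g t
  have hnat : ∀ u, J.subtype.lTensor (LocalizedModule M L) (g u) = g' (J.subtype.lTensor L u) := by
    intro u
    induction u using TensorProduct.induction_on with
    | zero => simp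
    | add a b ha hb => simp only [map_add, ha, hb]
    | tmul a b => rfl
  have hlin : J.subtype.lTensor (LocalizedModule M L) (s • t) =
      s • J.subtype.lTensor (LocalizedModule M L) t :=
    (AlgebraTensorModule.lTensor S (LocalizedModule M L) J.subtype).map_smul (s : S) t
  have h0 : g' (J.subtype.lTensor L t0) = 0 := by
    rw [← hnat, ← hs, hlin, ht, smul_zero]
  obtain ⟨s', hs'⟩ := (IsLocalizedModule.eq_zero_iff M g').1 h0
  have h1 : J.subtype.lTensor L ((s' : S) • t0) = 0 := by
    rw [← hs']
    exact (AlgebraTensorModule.lTensor S L J.subtype).map_smul (s' : S) t0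
  obtain ⟨c, hc⟩ := h J _ h1
  refine ⟨c, ?_⟩
  have h2 : g (x ^ c • (s' : S) • t0) = 0 := by rw [hc, map_zero]
  rw [← algebraMap_smul S (x ^ c) ((s' : S) • t0), map_smul, map_smul] at h2
  have hs2 : g t0 = (s : S) • t := hs.symm
  rw [hs2, smul_smul, smul_smul,
    show algebraMap R S (x ^ c) * (s' : S) * (s : S) =
      ((s' : S) * (s : S)) * algebraMap R S (x ^ c) by ring,
    mul_smul, algebraMap_smul] at h2
  refine ((Module.End.isUnit_iff _).1 (IsLocalizedModule.map_units g (s' * s))).1 ?_
  rw [Module.algebraMap_end_apply, map_zero, Submonoid.coe_mul]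
  exact h2

set_option maxHeartbeats 1000000 in
/-- Flatness of a module, tested at primes over a set of elements with torsion kernels. -/
theorem flat_of_kerTors_of_localized (Z : Set R) (hZ : ∀ a ∈ Z, KerTors L a)
    (h : ∀ (q : Ideal S) [q.IsMaximal], (∀ a ∈ Z, algebraMap R S a ∈ q) →
      Module.Flat R (LocalizedModule q.primeCompl L)) : Module.Flat R L := by
  refine Module.flat_of_isLocalized_maximal (R := R) S L (fun q _ => LocalizedModule q.primeCompl L)
    (fun q _ => LocalizedModule.mkLinearMap q.primeCompl L) fun q hq => ?_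
  by_cases hc : ∀ a ∈ Z, algebraMap R S a ∈ q
  · exact h q hc
  push Not at hc
  obtain ⟨a, ha, haq⟩ := hc
  refine Module.Flat.iff_lTensor_injective.2 fun J _ => ?_
  rw [injective_iff_map_eq_zero]
  intro t ht
  obtain ⟨c, hc⟩ := kerTors_localized q.primeCompl (hZ a ha) J t ht
  rw [← algebraMap_smul S (a ^ c) t, map_pow] at hc
  let g := AlgebraTensorModule.rTensor R J (LocalizedModule.mkLinearMap q.primeCompl L)
  refine ((Module.End.isUnit_iff _).1 (IsLocalizedModule.map_units g
    (⟨_, haq⟩ ^ c : q.primeCompl))).1 ?_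
  rw [Module.algebraMap_end_apply, map_zero, SubmonoidClass.coe_pow]
  exact hc

end Local

end Groth.Agent.H24.ValFlat
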